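import Mathlib

/-!
A group of the shape of a Sylow 2-subgroup of `U₃(4)` has no pair of automorphisms `t`, `y` such that,
modulo the centre, `t` is an involution inverting `y`, while on the centre `t` swaps two involutions
and `y` permutes all three cyclically.
-/

set_option autoImplicit false

namespace Cfsg.Agent.H29.RankTwoFusion

open Subgroup

variable {P : Type*} [Group P]

private def com (x y : P) : P := x * y * x⁻¹ * y⁻¹

private theorem com_map (β : MulAut P) (x y : P) : β (com x y) = com (β x) (β y) := by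
  simp [com]

/-- Automorphisms preserve the centre. -/
theorem map_mem_center (β : MulAut P) {x : P} (hx : x ∈ center P) : β x ∈ center P := by
  refine mem_center_iff.2 fun g => ?_
  obtain ⟨g', rfl⟩ := β.surjective g
  rw [← map_mul, ← map_mul, mem_center_iff.1 hx g']

/-- Automorphisms respect congruence modulo the centre. -/
theorem congr_map (β : MulAut P) {x y : P}
    (h : QuotientGroup.mk' (center P) x = QuotientGroup.mk' (center P) y) :
    QuotientGroup.mk' (center P) (β x) = QuotientGroup.mk' (center P) (β y) := by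
  rw [QuotientGroup.mk'_apply, QuotientGroup.mk'_apply, QuotientGroup.eq] at h ⊢
  simpa using map_mem_center β h

variable [Finite P]

theorem no_swap (hV : 16 ≤ Nat.card (P ⧸ center P))
    (hsq : ∀ x : P, x * x ∈ center P) (hinv : ∀ x : P, x * x = 1 → x ∈ center P)
    (t y : MulAut P) (z b : P)
    (hZ : ∀ u ∈ center P, u = 1 ∨ u = z ∨ u = b ∨ u = z * b)
    (hz : z ∈ center P) (hb : b ∈ center P) (hz2 : z * z = 1) (hb2 : b * b = 1)
    (hz1 : z ≠ 1) (hb1 : b ≠ 1) (hzb : z ≠ b)
    (htz : t z = z) (htb : t b = z * b) (hyz : y z = b) (hyb : y b = z * b)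
    (htt : ∀ x, QuotientGroup.mk' (center P) (t (t x)) = QuotientGroup.mk' (center P) x)
    (hty : ∀ x, QuotientGroup.mk' (center P) (t (y x)) =
      QuotientGroup.mk' (center P) (y⁻¹ (t x))) : False := by
  classical
  set q := QuotientGroup.mk' (center P) with hq
  have qeq : ∀ {x x' : P}, q x = q x' ↔ x⁻¹ * x' ∈ center P := by
    intro x x'
    rw [hq, QuotientGroup.mk'_apply, QuotientGroup.mk'_apply, QuotientGroup.eq]
  have qone : ∀ {x : P}, q x = 1 ↔ x ∈ center P := fun {x} => QuotientGroup.eq_one_iff x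
  have qsq : ∀ v : P ⧸ center P, v * v = 1 := by
    intro v
    obtain ⟨x, rfl⟩ := QuotientGroup.mk'_surjective _ v
    exact (map_mul q x x).symm.trans (qone.2 (hsq x))
  have qcomm : ∀ v w : P ⧸ center P, v * w = w * v := by
    intro v w
    calc v * w = v * ((v * w) * (v * w)) * w := by rw [qsq, mul_one]
      _ = (v * v) * (w * v) * (w * w) := by group
      _ = w * v := by rw [qsq, qsq, one_mul, mul_one]
  have cm : ∀ x x' : P, com x x' ∈ center P := by
    intro x x'
    refine qone.1 ?_
    simp only [com, map_mul, map_inv]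
    rw [qcomm (q x) (q x'), mul_inv_cancel_right, mul_inv_cancel]
  have zc : ∀ {u : P}, u ∈ center P → ∀ g : P, g * u = u * g := fun hu g => mem_center_iff.1 hu g
  have cl : ∀ a₁ a₂ g : P, com (a₁ * a₂) g = com a₁ g * com a₂ g := by
    intro a₁ a₂ g
    have : com (a₁ * a₂) g = a₁ * com a₂ g * a₁⁻¹ * com a₁ g := by simp only [com]; group
    rw [this, zc (cm a₂ g) a₁, mul_inv_cancel_right, zc (cm a₁ g)]
  have cr : ∀ g a₁ a₂ : P, com g (a₁ * a₂) = com g a₁ * com g a₂ := by
    intro g a₁ a₂
    have : com g (a₁ * a₂) = com g a₁ * (a₁ * com g a₂ * a₁⁻¹) := by simp only [com]; group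
    rw [this, zc (cm g a₂) a₁, mul_inv_cancel_right]
  have csw : ∀ a₁ a₂ : P, com a₁ a₂ = (com a₂ a₁)⁻¹ := fun a₁ a₂ => by simp only [com]; group
  have cz : ∀ g u : P, u ∈ center P → com g u = 1 := fun g u hu => by
    simp only [com]; rw [zc hu g]; group
  have ccr : ∀ g {x x' : P}, q x = q x' → com g x = com g x' := by
    intro g x x' h
    have hu := qeq.1 h
    rw [show x' = x * (x⁻¹ * x') by group, cr, cz g _ hu, mul_one]
  have hzb2 : z * b * (z * b) = 1 := by
    rw [show z * b * (z * b) = z * (b * z) * b by group, zc hz b, ← mul_assoc, hz2, one_mul, hb2]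
  have hu2 : ∀ u ∈ center P, u * u = 1 := by
    intro u hu
    rcases hZ u hu with rfl | rfl | rfl | rfl
    exacts [one_mul 1, hz2, hb2, hzb2]
  have csym : ∀ a₁ a₂ : P, com a₁ a₂ = com a₂ a₁ := fun a₁ a₂ => by
    rw [csw a₁ a₂]
    exact inv_eq_of_mul_eq_one_right (hu2 _ (cm a₂ a₁))
  have ccl : ∀ g {x x' : P}, q x = q x' → com x g = com x' g := fun g {x x'} h => by
    rw [csym, ccr g h, csym]
  have sqc : ∀ {x x' : P}, q x = q x' → x * x = x' * x' := by
    intro x x' h
    have hu := qeq.1 h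
    set u := x⁻¹ * x' with hu'
    rw [show x' = x * u by rw [hu']; group, show x * u * (x * u) = x * (u * x) * u by group,
      ← zc hu x, ← mul_assoc x x u, mul_assoc (x * x) u u, hu2 u hu, mul_one]
  have sqmul : ∀ x x' : P, x * x' * (x * x') = x * x * (x' * x') * com x x' := by
    intro x x'
    have : x * x' * (x * x') = x * (com x' x * (x * x')) * x' := by simp only [com]; group
    rw [this, csym x' x, ← mul_assoc x, zc (cm x x') x, mul_assoc (com x x') x,
      ← mul_assoc x x x', mul_assoc (com x x') (x * x * x') x', ← zc (cm x x'), mul_assoc (x * x) x' x']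
  -- the three involutions
  have htzb : t (z * b) = b := by rw [map_mul, htz, htb, ← mul_assoc, hz2, one_mul]
  have hyzb : y (z * b) = z := by
    rw [map_mul, hyz, hyb, ← mul_assoc, zc hz b, mul_assoc, hb2, mul_one]
  have hne : z * b ≠ z ∧ z * b ≠ b ∧ z * b ≠ 1 := by
    refine ⟨fun h => hb1 (by simpa using h), fun h => hz1 (by simpa using h), fun h => hzb ?_⟩
    exact mul_right_cancel (h.trans hb2.symm)
  have hfix : ∀ u ∈ center P, t u = u → u = 1 ∨ u = z := by
    intro u hu h
    rcases hZ u hu with rfl | rfl | rfl | rfl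
    · exact Or.inl rfl
    · exact Or.inr rfl
    · rw [htb] at h; exact absurd h hne.2.1
    · rw [htzb] at h; exact absurd h.symm hne.2.1
  have tinv : ∀ x, q (t (y⁻¹ x)) = q (y (t x)) := by
    intro x
    have h := congr_map y (hty (y⁻¹ x))
    simp only [MulAut.apply_inv_self] at h
    exact h.symm
  -- classes fixed by `t`
  have sqW : ∀ {x : P}, q (t x) = q x → q x ≠ 1 → x * x = z := by
    intro x hx hx1
    rcases hfix _ (hsq x) ((map_mul t x x).trans (sqc hx)) with h | h
    · exact absurd (qone.2 (hinv x h)) hx1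
    · exact h
  have comW : ∀ {x x' : P}, q (t x) = q x → q (t x') = q x' → q x ≠ 1 → q x' ≠ 1 → q x ≠ q x' →
      com x x' = z := by
    intro x x' hx hx' hx1 hx1' hxx'
    have h1 : q (t (x * x')) = q (x * x') := by rw [map_mul t, map_mul, map_mul, hx, hx']
    have h2 : q (x * x') ≠ 1 := fun h => hxx' (by
      rw [map_mul] at h
      rw [← mul_one (q x), ← qsq (q x'), ← mul_assoc, h, one_mul])
    have h := sqW h1 h2
    rw [sqmul, sqW hx hx1, sqW hx' hx1', hz2, one_mul] at h
    exact h
  -- the map `φ`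
  set φ : P → P := fun x => y x * y⁻¹ x with hφ
  have φW : ∀ {x : P}, q (t x) = q x → q (t (φ x)) = q (φ x) := by
    intro x hx
    rw [hφ]
    show q (t (y x * y⁻¹ x)) = q (y x * y⁻¹ x)
    rw [map_mul t, map_mul, map_mul, hty, tinv, congr_map y hx, congr_map y⁻¹ hx, qcomm]
  have φ1 : ∀ {x : P}, q (t x) = q x → q x ≠ 1 → q (φ x) ≠ 1 := by
    intro x hx hx1 h
    have hxy : q (y x) = q (y⁻¹ x) := by
      have h' : q (y x) * q (y⁻¹ x) = 1 := (map_mul q _ _).symm.trans h
      rw [← mul_one (q (y x)), ← qsq (q (y⁻¹ x)), ← mul_assoc, h', one_mul]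
    have := sqc hxy
    rw [← map_mul y, ← map_mul y⁻¹, sqW hx hx1, hyz] at this
    have h3 : y b = z := by rw [this, MulAut.apply_inv_self]
    rw [hyb] at h3
    exact hne.1 h3
  have φmul : ∀ x x' : P, q (φ (x * x')) = q (φ x) * q (φ x') := by
    intro x x'
    simp only [hφ, map_mul]
    rw [mul_assoc, mul_assoc, ← mul_assoc (q (y x')), qcomm (q (y x')) (q (y⁻¹ x)), mul_assoc]
  have φinj : ∀ {x x' : P}, q (t x) = q x → q (t x') = q x' → q (φ x) = q (φ x') → q x = q x' := by
    intro x x' hx hx' h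
    by_contra hne'
    have h1 : q (t (x * x')) = q (x * x') := by rw [map_mul t, map_mul, map_mul, hx, hx']
    refine φ1 h1 (fun h2 => hne' ?_) ?_
    · rw [map_mul] at h2
      rw [← mul_one (q x), ← qsq (q x'), ← mul_assoc, h2, one_mul]
    · rw [φmul, h, qsq]
  -- at least four classes are fixed
  let tb : (P ⧸ center P) →* (P ⧸ center P) :=
    QuotientGroup.map (center P) (center P) t.toMonoidHom fun x hx => map_mem_center t hx
  have tb_mk : ∀ x, tb (q x) = q (t x) := fun x => rfl
  let δ : (P ⧸ center P) →* (P ⧸ center P) :=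
    MonoidHom.mk' (fun v => v * tb v) fun v w => by
      rw [map_mul, mul_assoc, mul_assoc, ← mul_assoc w, qcomm w (tb v), mul_assoc]
  have hle : δ.range ≤ δ.ker := by
    rintro _ ⟨v, rfl⟩
    obtain ⟨x, rfl⟩ := QuotientGroup.mk'_surjective _ v
    show q x * tb (q x) * tb (q x * tb (q x)) = 1
    rw [map_mul, tb_mk, tb_mk, htt, mul_assoc, ← mul_assoc (q (t x)), qsq, one_mul, qsq]
  have hker : ∀ x, q x ∈ δ.ker → q (t x) = q x := by
    intro x hx
    have h : q x * q (t x) = 1 := hx
    rw [← one_mul (q (t x)), ← qsq (q x), mul_assoc, h, mul_one]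
  have h4 : 4 ≤ Nat.card δ.ker := by
    have h1 := δ.ker.card_mul_index
    rw [Subgroup.index_ker] at h1
    have h2 := Subgroup.card_le_of_le hle
    by_contra h
    have h3 : Nat.card δ.ker * Nat.card δ.range ≤ 3 * 3 := Nat.mul_le_mul (by omega) (by omega)
    omega
  have pick : ∀ v₁ v₂ v₃ : P ⧸ center P, ∃ x, q x ∈ δ.ker ∧ q x ≠ v₁ ∧ q x ≠ v₂ ∧ q x ≠ v₃ := by
    intro v₁ v₂ v₃
    by_contra h
    push Not at h
    have hsub : (δ.ker : Set (P ⧸ center P)) ⊆ ↑({v₁, v₂, v₃} : Finset (P ⧸ center P)) := by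
      intro v hv
      obtain ⟨x, rfl⟩ := QuotientGroup.mk'_surjective _ v
      simp only [Finset.coe_insert, Finset.coe_singleton, Set.mem_insert_iff, Set.mem_singleton_iff]
      have := h x hv
      tauto
    have h1 := Set.ncard_le_ncard hsub (Finset.finite_toSet _)
    rw [Set.ncard_coe_finset, ← Nat.card_coe_set_eq] at h1
    have h2 : ({v₁, v₂, v₃} : Finset (P ⧸ center P)).card ≤ 3 := Finset.card_le_three
    have h3 : Nat.card ↥(δ.ker : Set (P ⧸ center P)) = Nat.card δ.ker := rfl
    omega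
  obtain ⟨c, hc, hc1, -, -⟩ := pick 1 1 1
  have hcW := hker c hc
  -- avoid `φ c` and the preimage of `c` under `φ`
  obtain ⟨v₀, hv₀⟩ : ∃ v₀ : P ⧸ center P, ∀ x, q (t x) = q x → q (φ x) = q c → q x = v₀ := by
    by_cases h : ∃ x, q (t x) = q x ∧ q (φ x) = q c
    · obtain ⟨x₀, h1, h2⟩ := h
      exact ⟨q x₀, fun x hx hxc => φinj hx h1 (hxc.trans h2.symm)⟩
    · exact ⟨1, fun x hx hxc => absurd ⟨x, hx, hxc⟩ h⟩
  obtain ⟨a, ha, ha1, hac, hav⟩ := pick 1 (q (φ c)) v₀
  have haW := hker a ha
  have haφ : q (φ a) ≠ q c := fun h => hav (hv₀ a haW h)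
  have e1 : com a (φ c) = z := comW haW (φW hcW) ha1 (φ1 hcW hc1) hac
  have e2 : com c (φ a) = z := comW hcW (φW haW) hc1 (φ1 haW ha1) (Ne.symm haφ)
  have yinv : ∀ x, q (y⁻¹ x) = q (y x) * q (φ x) := fun x => by
    rw [hφ]; simp only [map_mul]; rw [← mul_assoc, qsq, one_mul]
  have tM : ∀ x x' : P, q (t x) = q x → q (t x') = q x' →
      t (com x (y x')) = com x (y x') * com x (φ x') := by
    intro x x' hx hx'
    rw [com_map, ccl _ hx, ccr x (hty x'), ccr x (congr_map y⁻¹ hx'), ← cr]
    exact ccr x ((yinv x').trans (map_mul q _ _).symm)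
  have yy : ∀ x, q (y (y x)) = q (x * y (φ x)) := by
    intro x
    have h : q x = q (y (y x)) * q (y (φ x)) := by
      rw [← map_mul q, ← map_mul y]
      have h1 := congr_map y ((yinv x).trans (map_mul q _ _).symm)
      rw [MulAut.apply_inv_self] at h1
      exact h1
    rw [map_mul, h, mul_assoc, qsq, mul_one]
  have yM : y (com a (y c)) = com c (y a) * y (com a (φ c)) := by
    rw [com_map, ccr (y a) (yy c), cr, ← com_map, csym (y a) c]
  have M1 : com a (y c) ≠ z * b := by
    intro h
    have hne1 : q (a * y c) ≠ 1 := by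
      intro h1
      have h2 : q a = q (y c) := by
        rw [map_mul] at h1
        rw [← mul_one (q a), ← qsq (q (y c)), ← mul_assoc, h1, one_mul]
      have h3 := sqc h2
      rw [sqW haW ha1, ← map_mul y, sqW hcW hc1, hyz] at h3
      exact hzb h3
    refine hne1 (qone.2 (hinv _ ?_))
    rw [sqmul, sqW haW ha1, ← map_mul y, sqW hcW hc1, hyz, h, hzb2]
  have M2 := tM a c haW hcW
  rw [e1] at M2
  have M3 : com a (y c) = b := by
    rcases hZ _ (cm a (y c)) with h | h | h | h
    · rw [h, map_one, one_mul] at M2; exact absurd M2.symm hz1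
    · rw [h, htz, hz2] at M2; exact absurd M2 hz1
    · exact h
    · exact absurd h M1
  have M4 : com c (y a) = z := by
    have h := yM
    rw [M3, e1, hyz, hyb] at h
    exact (mul_right_cancel h).symm
  have M5 := tM c a hcW haW
  rw [M4, htz, e2] at M5
  exact hz1 (by simpa using M5)

end Cfsg.Agent.H29.RankTwoFusion
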