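import Cfsg.Prelude.Def_CaseTheorems
import Cfsg.Agent.PGroups.MaxClass
import Cfsg.Agent.PGroups.TwoGroups

/-!
2-groups containing a homocyclic group of rank 2 with index 2, or a self-centralising four-group.
-/

set_option autoImplicit false
set_option linter.style.haveILetI false

namespace Cfsg.Agent.H29.RankTwoFusion

open Subgroup

universe u

variable {X : Type u} [Group X]

theorem exists_root_zmod (m : ℕ) (u : ZMod (2 ^ (m + 1))) (h : u + u = 0) :
    ∃ v : ZMod (2 ^ (m + 1)), (2 ^ m : ℕ) • v = u := by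
  have : NeZero (2 ^ (m + 1)) := ⟨by positivity⟩
  rw [← ZMod.natCast_zmod_val u, ← Nat.cast_add, ZMod.natCast_eq_zero_iff] at h
  obtain ⟨k, hk⟩ := h
  refine ⟨k, ?_⟩
  have hval : u.val = 2 ^ m * k := by
    have h1 : (2 : ℕ) ^ (m + 1) * k = 2 * (2 ^ m * k) := by ring
    omega
  rw [nsmul_eq_mul, ← Nat.cast_mul, ← hval, ZMod.natCast_zmod_val]

/-- The only involution of a cyclic 2-group. -/
theorem eq_of_mem_zpowers {a v : X} {m : ℕ} (ha : orderOf a = 2 ^ (m + 1)) (hv : v ∈ zpowers a)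
    (hv2 : orderOf v = 2) : v = a ^ (2 ^ m) := by
  obtain ⟨i, rfl⟩ := mem_zpowers_iff.1 hv
  have h1 : (a ^ i) ^ (2 : ℕ) = 1 := hv2 ▸ pow_orderOf_eq_one _
  rw [← zpow_natCast, ← zpow_mul, ← orderOf_dvd_iff_zpow_eq_one, ha] at h1
  push_cast at h1
  rw [pow_succ] at h1
  obtain ⟨k, rfl⟩ := (mul_dvd_mul_iff_right (two_ne_zero' ℤ)).1 h1
  have h2 : ¬ Even k := by
    rintro ⟨l, rfl⟩
    rw [show ((2 : ℤ) ^ m * (l + l)) = ((2 ^ (m + 1) : ℕ) : ℤ) * l by push_cast; ring, zpow_mul,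
      zpow_natCast, ← ha, pow_orderOf_eq_one, one_zpow, orderOf_one] at hv2
    omega
  obtain ⟨l, rfl⟩ := Int.not_even_iff_odd.1 h2
  rw [show ((2 : ℤ) ^ m * (2 * l + 1)) = ((2 ^ (m + 1) : ℕ) : ℤ) * l + ((2 ^ m : ℕ) : ℤ) by
    push_cast; ring, zpow_add, zpow_mul, zpow_natCast, ← ha, pow_orderOf_eq_one, one_zpow, one_mul,
    zpow_natCast]

variable [Finite X]

theorem isWreathed_of_index_two (P : Subgroup X) (n : ℕ) (hn : 2 ≤ n)
    (e : P ≃* Multiplicative (ZMod (2 ^ n) × ZMod (2 ^ n))) (hidx : P.index = 2) (w : X) (hw : w ∉ P)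
    (b : X) (hbP : b ∈ P) (hb : orderOf b = 2) (hwb : w * b * w⁻¹ ≠ b) : Cfsg.IsWreathed X := by
  classical
  obtain ⟨m, rfl⟩ : ∃ m, n = m + 1 := ⟨n - 1, by omega⟩
  haveI hn' : P.Normal := normal_of_index_eq_two hidx
  haveI : NeZero (2 ^ (m + 1)) := ⟨by positivity⟩
  have hcomm : ∀ {x x'}, x ∈ P → x' ∈ P → x * x' = x' * x := by
    intro x x' hx hx'
    have h : e ⟨x, hx⟩ * e ⟨x', hx'⟩ = e ⟨x', hx'⟩ * e ⟨x, hx⟩ := mul_comm _ _
    rw [← map_mul, ← map_mul] at h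
    exact congrArg Subtype.val (e.injective h)
  -- a root of `b`
  obtain ⟨a, haP, hab⟩ : ∃ a ∈ P, a ^ (2 ^ m) = b := by
    set u := (e ⟨b, hbP⟩).toAdd with hu
    have h2 : u + u = 0 := by
      rw [hu, ← toAdd_mul, ← map_mul]
      have : (⟨b, hbP⟩ : P) * ⟨b, hbP⟩ = 1 := Subtype.ext (by
        rw [Subgroup.coe_mul, ← pow_two]; exact hb ▸ pow_orderOf_eq_one b)
      rw [this, map_one, toAdd_one]
    obtain ⟨v₁, hv₁⟩ := exists_root_zmod m u.1 (congrArg Prod.fst h2)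
    obtain ⟨v₂, hv₂⟩ := exists_root_zmod m u.2 (congrArg Prod.snd h2)
    refine ⟨(e.symm (Multiplicative.ofAdd (v₁, v₂)) : P), Subtype.coe_prop _, ?_⟩
    have : (e.symm (Multiplicative.ofAdd (v₁, v₂))) ^ (2 ^ m) = ⟨b, hbP⟩ := by
      apply e.injective
      rw [map_pow, MulEquiv.apply_symm_apply]
      apply Multiplicative.toAdd.injective
      rw [toAdd_pow, toAdd_ofAdd]
      exact Prod.ext hv₁ hv₂
    exact congrArg Subtype.val this
  have hord : orderOf a = 2 ^ (m + 1) := by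
    haveI : Fact (Nat.Prime 2) := ⟨Nat.prime_two⟩
    refine orderOf_eq_prime_pow ?_ ?_
    · rw [hab]; intro h; rw [h, orderOf_one] at hb; omega
    · rw [pow_succ, pow_mul, hab, ← hb, pow_orderOf_eq_one]
  set a' := w * a * w⁻¹ with ha'
  have ha'P : a' ∈ P := hn'.conj_mem a haP w
  have hord' : orderOf a' = 2 ^ (m + 1) := by
    rw [ha', ← hord]
    exact orderOf_injective (MulAut.conj w).toMonoidHom (MulAut.conj w).injective a
  have hab' : a' ^ (2 ^ m) = w * b * w⁻¹ := by rw [ha', conj_pow, hab]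
  have hdisj : zpowers a ⊓ zpowers a' = ⊥ := by
    by_contra h
    haveI : Fact (Nat.Prime 2) := ⟨Nat.prime_two⟩
    have hp : IsPGroup 2 ↥(zpowers a ⊓ zpowers a') :=
      (IsPGroup.of_card (p := 2) (n := m + 1) (by rw [Nat.card_zpowers, hord])).to_le inf_le_left
    obtain ⟨k, hk⟩ := hp.exists_card_eq
    have hdvd : 2 ∣ Nat.card ↥(zpowers a ⊓ zpowers a') := by
      rw [hk]
      refine dvd_pow_self 2 fun h0 => h (Subgroup.eq_bot_of_card_eq _ (by rw [hk, h0, pow_zero]))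
    obtain ⟨v, hv⟩ := exists_prime_orderOf_dvd_card' 2 hdvd
    rw [← Subgroup.orderOf_coe] at hv
    have h1 := eq_of_mem_zpowers hord v.2.1 hv
    have h2 := eq_of_mem_zpowers hord' v.2.2 hv
    rw [hab] at h1
    rw [hab', h1] at h2
    exact hwb h2.symm
  have hcard : Nat.card P = 2 ^ (m + 1) * 2 ^ (m + 1) := by
    rw [Nat.card_congr e.toEquiv]
    show Nat.card (ZMod (2 ^ (m + 1)) × ZMod (2 ^ (m + 1))) = _
    rw [Nat.card_prod, Nat.card_zmod]
  have hinter : ∀ {x}, x ∈ zpowers a → x ∈ zpowers a' → x = 1 := fun h1 h2 =>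
    Subgroup.mem_bot.1 (hdisj ▸ (⟨h1, h2⟩ : _ ∈ zpowers a ⊓ zpowers a'))
  have hmul : ∀ p ∈ P, ∃ i j : ℕ, p = a ^ i * a' ^ j := by
    let f : Fin (2 ^ (m + 1)) × Fin (2 ^ (m + 1)) → P := fun ij =>
      ⟨a ^ (ij.1 : ℕ) * a' ^ (ij.2 : ℕ), mul_mem (pow_mem haP _) (pow_mem ha'P _)⟩
    have hf : Function.Injective f := by
      rintro ⟨i, j⟩ ⟨i', j'⟩ h
      have h1 : a ^ (i : ℕ) * a' ^ (j : ℕ) = a ^ (i' : ℕ) * a' ^ (j' : ℕ) := congrArg Subtype.val h
      have h2 : (a ^ (i' : ℕ))⁻¹ * a ^ (i : ℕ) = a' ^ (j' : ℕ) * (a' ^ (j : ℕ))⁻¹ := by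
        rw [eq_mul_inv_iff_mul_eq, mul_assoc, h1, inv_mul_cancel_left]
      have h3 := hinter (x := (a ^ (i' : ℕ))⁻¹ * a ^ (i : ℕ))
        (mul_mem (inv_mem (pow_mem (mem_zpowers a) _)) (pow_mem (mem_zpowers a) _))
        (h2 ▸ mul_mem (pow_mem (mem_zpowers a') _) (inv_mem (pow_mem (mem_zpowers a') _)))
      have hi : (i : ℕ) = i' := (pow_injOn_Iio_orderOf (x := a) (by simp [hord]) (by simp [hord])
        (inv_mul_eq_one.1 h3).symm)
      rw [hi, mul_right_inj] at h1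
      have hj : (j : ℕ) = j' := pow_injOn_Iio_orderOf (x := a') (by simp [hord']) (by simp [hord']) h1
      exact Prod.ext (Fin.ext hi) (Fin.ext hj)
    have hb' : Function.Bijective f := (Nat.bijective_iff_injective_and_card f).2
      ⟨hf, by rw [hcard, Nat.card_prod, Nat.card_fin]⟩
    intro p hp
    obtain ⟨⟨i, j⟩, h⟩ := hb'.2 ⟨p, hp⟩
    exact ⟨i, j, (congrArg Subtype.val h).symm⟩
  have hw2 : w * w ∈ P := by
    rw [← pow_two, ← hidx]
    exact P.pow_index_mem w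
  obtain ⟨i, j, hij⟩ := hmul _ hw2
  have hwa' : w * a' * w⁻¹ = a := by
    rw [ha', show w * (w * a * w⁻¹) * w⁻¹ = (w * w) * a * (w * w)⁻¹ by group, hcomm hw2 haP,
      mul_inv_cancel_right]
  have hfix : a' ^ i * a ^ j = a ^ i * a' ^ j := by
    rw [← hij]
    calc a' ^ i * a ^ j = (w * a ^ i * w⁻¹) * (w * a' ^ j * w⁻¹) := by
          rw [← conj_pow, ← conj_pow, hwa', ha']
      _ = w * (a ^ i * a' ^ j) * w⁻¹ := by group
      _ = w * w := by rw [← hij]; group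
  have heq : a' ^ i = a' ^ j := by
    have h1 : (a ^ i)⁻¹ * a ^ j = a' ^ j * (a' ^ i)⁻¹ := by
      rw [eq_mul_inv_iff_mul_eq, mul_assoc, hcomm (pow_mem haP _) (pow_mem ha'P _), hfix,
        inv_mul_cancel_left]
    have h2 := hinter (x := (a ^ i)⁻¹ * a ^ j)
      (mul_mem (inv_mem (pow_mem (mem_zpowers a) _)) (pow_mem (mem_zpowers a) _))
      (h1 ▸ mul_mem (pow_mem (mem_zpowers a') _) (inv_mem (pow_mem (mem_zpowers a') _)))
    rw [h2] at h1
    exact (mul_inv_eq_one.1 h1.symm).symm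
  rw [← heq] at hij
  set z := (a ^ i)⁻¹ * w with hz
  refine ⟨m + 1, hn, ?_, a, a', z, hord, hcomm haP ha'P, hdisj, ?_, ?_⟩
  · rw [← P.card_mul_index, hidx, hcard]; ring
  · haveI : Fact (Nat.Prime 2) := ⟨Nat.prime_two⟩
    refine orderOf_eq_prime ?_ fun h => hw ?_
    · rw [pow_two, hz]
      calc (a ^ i)⁻¹ * w * ((a ^ i)⁻¹ * w) = (a ^ i)⁻¹ * (w * (a ^ i)⁻¹ * w⁻¹) * (w * w) := by group
        _ = (a ^ i)⁻¹ * (a' ^ i)⁻¹ * (a ^ i * a' ^ i) := by rw [hij, ha', conj_pow]; group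
        _ = (a ^ i)⁻¹ * (a' ^ i)⁻¹ * (a' ^ i * a ^ i) := by
          rw [hcomm (pow_mem haP i) (pow_mem ha'P i)]
        _ = 1 := by group
    · rw [hz, inv_mul_eq_one] at h
      exact h ▸ pow_mem haP i
  · rw [hz, show (a ^ i)⁻¹ * w * a * ((a ^ i)⁻¹ * w)⁻¹ = (a ^ i)⁻¹ * a' * a ^ i by rw [ha']; group,
      mul_assoc, hcomm ha'P (pow_mem haP i), inv_mul_cancel_left]

theorem dihedral_or_semidihedral (hX : IsPGroup 2 X) (A : Subgroup X) (hA : Nat.card A = 4)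
    (hA2 : ∀ a ∈ A, a * a = 1) (hCA : centralizer (A : Set X) = A) (hne : A ≠ ⊤) :
    (∃ m : ℕ, 2 ≤ m ∧ Nonempty (X ≃* DihedralGroup m)) ∨ Cfsg.IsQuasiDihedral X := by
  haveI : Fact (Nat.Prime 2) := ⟨Nat.prime_two⟩
  obtain ⟨n, hn⟩ := hX.exists_card_eq
  have h3 : 3 ≤ n := by
    by_contra h
    refine hne (Subgroup.eq_top_of_le_card _ ?_)
    rw [hA, hn]
    exact Nat.pow_le_pow_right two_pos (show n ≤ 2 by omega)
  obtain ⟨c, y, hc, hy, hcase, -⟩ := PGroups.maxClass_two h3 hn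
    (PGroups.nilpotencyClass_of_self_centralizing n X hn A (by rw [hA]; norm_num) hCA)
  rcases hcase with ⟨hconj, hy2 | hy2⟩ | ⟨h4, hconj, hy2⟩
  · haveI : NeZero (2 ^ (n - 1)) := ⟨by positivity⟩
    refine Or.inl ⟨2 ^ (n - 1), ?_, PGroups.nonempty_mulEquiv_dihedral hc hy hy2 hconj ?_⟩
    · calc (2 : ℕ) = 2 ^ 1 := rfl
        _ ≤ _ := Nat.pow_le_pow_right two_pos (by omega)
    · rw [hn, ← pow_succ', show n - 1 + 1 = n by omega]
  · -- generalised quaternion: only one involution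
    exfalso
    have hidx : (zpowers c).index = 2 := by
      have h1 := (zpowers c).card_mul_index
      rw [Nat.card_zpowers, hc, hn, show n = (n - 1) + 1 by omega, pow_succ, Nat.add_sub_cancel] at h1
      exact Nat.eq_of_mul_eq_mul_left (by positivity) h1
    obtain ⟨k, rfl⟩ : ∃ k, n = k + 2 := ⟨n - 2, by omega⟩
    rw [show k + 2 - 1 = k + 1 by omega] at hc
    rw [show k + 2 - 2 = k by omega] at hy2
    have hK : c ^ 2 ^ k ≠ 1 := fun h => by
      have := orderOf_dvd_of_pow_eq_one h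
      rw [hc, Nat.pow_dvd_pow_iff_le_right one_lt_two] at this
      omega
    have hin : ∀ v ∈ A, v ≠ 1 → v = c ^ 2 ^ k := by
      intro v hv hv1
      refine eq_of_mem_zpowers hc ?_ (orderOf_eq_prime (by rw [pow_two, hA2 v hv]) hv1)
      by_contra hvc
      obtain ⟨i, hi⟩ : ∃ i : ℤ, y⁻¹ * v = c ^ i := by
        have : y⁻¹ * v ∈ zpowers c := by
          rw [Subgroup.mul_mem_iff_of_index_two hidx]
          exact iff_of_false (fun h => hy (inv_mem_iff.1 h)) hvc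
        exact ⟨_, (mem_zpowers_iff.1 this).choose_spec.symm⟩
      obtain rfl : v = y * c ^ i := by rw [← hi, mul_inv_cancel_left]
      have h := hA2 _ hv
      rw [show y * c ^ i * (y * c ^ i) = y * c ^ i * y⁻¹ * y ^ 2 * c ^ i by group, ← conj_zpow, hconj,
        hy2, inv_zpow, mul_assoc, ← zpow_natCast, (Commute.zpow_zpow_self c _ _).eq,
        inv_mul_cancel_left] at h
      exact hK (by rwa [← zpow_natCast])
    have hsub : (A : Set X) ⊆ {1, c ^ 2 ^ k} := fun v hv => by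
      rcases eq_or_ne v 1 with rfl | h
      · exact Or.inl rfl
      · exact Or.inr (hin v hv h)
    have := (Set.ncard_le_ncard hsub (Set.toFinite _)).trans ((Set.ncard_insert_le _ _).trans_eq
      (by rw [Set.ncard_singleton]))
    rw [← Nat.card_coe_set_eq] at this
    have h4 : Nat.card ↥(A : Set X) = 4 := hA
    omega
  · refine Or.inr ⟨n - 1, by omega, by rw [hn, show n - 1 + 1 = n by omega], c, y, hc, ?_, ?_⟩
    · refine orderOf_eq_prime hy2 fun h => hy (h ▸ one_mem _)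
    · rw [hconj, show n - 1 - 1 = n - 2 by omega]

end Cfsg.Agent.H29.RankTwoFusion
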