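import Cfsg.Agent.FusionSys.Normal
import Cfsg.Agent.H89.Join
import Cfsg.Agent.FusionSys.Centric
import Cfsg.Agent.H41.Basic
import Cfsg.Agent.H39.WreathSubgroups
import Cfsg.Agent.S1237
import Cfsg.Agent.S1248
import Cfsg.Agent.H29.RankTwoFusion.NoSwap
import Cfsg.Agent.H29.RankTwoFusion.Wreath

/-!
Alperin's theorem on saturated fusion systems over 2-groups of rank 2 without central involutions: the
group is dihedral, semidihedral, wreathed, homocyclic or a Sylow 2-subgroup of `U₃(4)`.
-/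

set_option autoImplicit false
set_option linter.style.haveILetI false

namespace Cfsg.Agent.H29.RankTwoFusion

open Cfsg Cfsg.FusionSystem Cfsg.Agent.FusionSys

/-- The list of groups. -/
def Shape (X : Type*) [Group X] {K : Type*} [Field K] [Fintype K]
    (T : Sylow 2 (Cfsg.PSU 3 K 4)) : Prop :=
  (∃ m : ℕ, 2 ≤ m ∧ Nonempty (X ≃* DihedralGroup m)) ∨ Cfsg.IsQuasiDihedral X ∨ Cfsg.IsWreathed X ∨
    (∃ n : ℕ, 1 ≤ n ∧ Nonempty (X ≃* Multiplicative (ZMod (2 ^ n) × ZMod (2 ^ n)))) ∨
    Nonempty (X ≃* (T : Subgroup (Cfsg.PSU 3 K 4)))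

theorem transitive_of_orderOf_three {I : Type*} [Finite I] (hI : Nat.card I = 3) (g : Equiv.Perm I)
    (hg : orderOf g = 3) (x y : I) : ∃ k : ℕ, (g ^ k) x = y := by
  classical
  haveI := Fintype.ofFinite I
  have h3 : g (g (g x)) = x := by
    have := congrArg (fun e : Equiv.Perm I => e x) (hg ▸ pow_orderOf_eq_one g)
    simpa [pow_succ, Equiv.Perm.mul_apply] using this
  have hpow : ∀ v : I, g (g (g v)) = v := fun v => by
    have := congrArg (fun e : Equiv.Perm I => e v) (hg ▸ pow_orderOf_eq_one g)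
    simpa [pow_succ, Equiv.Perm.mul_apply] using this
  have hnf : ∀ v : I, g v ≠ v := by
    intro v hv
    have : g ^ 2 = 1 := by
      ext w
      show g (g w) = w
      by_cases hwv : w = v
      · rw [hwv, hv, hv]
      by_contra hne
      have h1 : g w ≠ v := fun h => hwv (g.injective (h.trans hv.symm))
      have h2 : g (g w) ≠ v := fun h => h1 (g.injective (h.trans hv.symm))
      have h3 : g w ≠ w := fun h => hne (by rw [h, h])
      have h4 : g (g w) ≠ g w := fun h => h3 (g.injective h)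
      have hc : ({v, w, g w, g (g w)} : Finset I).card = 4 := by
        rw [Finset.card_insert_of_notMem (by simp [Ne.symm hwv, Ne.symm h1, Ne.symm h2]),
          Finset.card_insert_of_notMem (by simp [Ne.symm h3, Ne.symm hne]),
          Finset.card_insert_of_notMem (by simp [Ne.symm h4]), Finset.card_singleton]
      have := Finset.card_le_univ ({v, w, g w, g (g w)} : Finset I)
      rw [← Nat.card_eq_fintype_card, hI, hc] at this
      omega
    have h2 := orderOf_dvd_of_pow_eq_one this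
    rw [hg] at h2
    omega
  have h12 : g (g x) ≠ x := fun h => hnf x (by rw [← congrArg g h]; exact h3)
  have hc : ({x, g x, g (g x)} : Finset I).card = 3 := by
    rw [Finset.card_insert_of_notMem (by simp [Ne.symm (hnf x), Ne.symm h12]),
      Finset.card_insert_of_notMem (by
        simp only [Finset.mem_singleton]
        exact fun h => hnf (g x) h.symm),
      Finset.card_singleton]
  have huniv : ({x, g x, g (g x)} : Finset I) = Finset.univ :=
    Finset.eq_univ_of_card _ (by rw [hc, ← Nat.card_eq_fintype_card, hI])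
  have hy : y ∈ ({x, g x, g (g x)} : Finset I) := huniv ▸ Finset.mem_univ y
  simp only [Finset.mem_insert, Finset.mem_singleton] at hy
  rcases hy with rfl | rfl | rfl
  exacts [⟨0, rfl⟩, ⟨1, rfl⟩, ⟨2, rfl⟩]

theorem add_self_eq_zero_zmod_two : ∀ u : ZMod 2, u + u = 0 := by decide

variable {Ω : Type*} [Group Ω] {S : Subgroup Ω}

/-- `S` has 2-rank at most 2. -/
def RankTwo (S : Subgroup Ω) : Prop :=
  ∀ A : Subgroup Ω, A ≤ S → IsMulCommutative A → (∀ a ∈ A, a ^ 2 = 1) → Nat.card A ≤ 4

variable [Finite S]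

theorem mem_four (hrk : RankTwo S) {z a x : Ω} (hz : z ∈ S) (ha : a ∈ S) (hx : x ∈ S)
    (hz2 : z * z = 1) (ha2 : a * a = 1) (hx2 : x * x = 1) (hza : z * a = a * z) (hzx : z * x = x * z)
    (hax : a * x = x * a) (hz1 : z ≠ 1) (ha1 : a ≠ 1) (hne : z ≠ a) :
    x = 1 ∨ x = z ∨ x = a ∨ x = z * a := by
  classical
  by_contra h
  push Not at h
  obtain ⟨h1, h2, h3, h4⟩ := h
  set A := Subgroup.closure ({z, a, x} : Set Ω) with hA
  have hcomm : ∀ u ∈ ({z, a, x} : Set Ω), ∀ v ∈ ({z, a, x} : Set Ω), u * v = v * u := by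
    intro u hu v hv
    simp only [Set.mem_insert_iff, Set.mem_singleton_iff] at hu hv
    rcases hu with rfl | rfl | rfl <;> rcases hv with rfl | rfl | rfl <;>
      first | rfl | assumption | (symm; assumption)
  have hc : ∀ u ∈ A, ∀ v ∈ A, u * v = v * u := by
    intro u hu v hv
    induction hu, hv using Subgroup.closure_induction₂ with
    | mem u v hu hv => exact hcomm u hu v hv
    | one_left v _ => simp
    | one_right v _ => simp
    | mul_left u v w _ _ _ h1 h2 => exact (Commute.mul_left h1 h2 : _)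
    | mul_right u v w _ _ _ h1 h2 => exact (Commute.mul_right h1 h2 : _)
    | inv_left u v _ _ h => exact (Commute.inv_left h : _)
    | inv_right u v _ _ h => exact (Commute.inv_right h : _)
  have hsq : ∀ u ∈ A, u ^ 2 = 1 := by
    intro u hu
    induction hu using Subgroup.closure_induction with
    | mem u hu =>
      simp only [Set.mem_insert_iff, Set.mem_singleton_iff] at hu
      rcases hu with rfl | rfl | rfl <;> rw [pow_two] <;> assumption
    | one => simp
    | mul u v hu hv h1 h2 => rw [(show Commute u v from hc u hu v hv).mul_pow, h1, h2, one_mul]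
    | inv u _ h => rw [inv_pow, h, inv_one]
  have hAS : A ≤ S := (Subgroup.closure_le _).2 (by
    intro u hu
    simp only [Set.mem_insert_iff, Set.mem_singleton_iff] at hu
    rcases hu with rfl | rfl | rfl <;> assumption)
  have hle := hrk A hAS ⟨⟨fun u v => Subtype.ext (hc u u.2 v v.2)⟩⟩ hsq
  haveI := finite_of_le hAS
  have hsub : (({1, z, a, z * a, x} : Finset Ω) : Set Ω) ⊆ (A : Set Ω) := by
    intro u hu
    have hzA : z ∈ A := Subgroup.subset_closure (by simp)
    have haA : a ∈ A := Subgroup.subset_closure (by simp)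
    simp only [Finset.coe_insert, Finset.coe_singleton, Set.mem_insert_iff, Set.mem_singleton_iff] at hu
    rcases hu with rfl | rfl | rfl | rfl | rfl
    exacts [one_mem _, hzA, haA, mul_mem hzA haA, Subgroup.subset_closure (by simp)]
  have hza1 : z * a ≠ 1 := fun h => hne (mul_right_cancel (h.trans ha2.symm))
  have hzaz : z * a ≠ z := fun h => ha1 (by simpa using h)
  have hzaa : z * a ≠ a := fun h => hz1 (by simpa using h)
  have hc5 : ({1, z, a, z * a, x} : Finset Ω).card = 5 := by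
    rw [Finset.card_insert_of_notMem (by simp [Ne.symm hz1, Ne.symm ha1, Ne.symm hza1, Ne.symm h1]),
      Finset.card_insert_of_notMem (by simp [hne, Ne.symm hzaz, Ne.symm h2]),
      Finset.card_insert_of_notMem (by simp [Ne.symm hzaa, Ne.symm h3]),
      Finset.card_insert_of_notMem (by simp [Ne.symm h4]), Finset.card_singleton]
  have := Set.ncard_le_ncard hsub (Set.toFinite _)
  rw [Set.ncard_coe_finset, hc5, ← Nat.card_coe_set_eq] at this
  have h5 : Nat.card ↥(A : Set Ω) = Nat.card A := rfl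
  omega

/-- A subgroup on which the system moves `z`. -/
def Moves (F : FusionSystem S) (z : Ω) (P : Subgroup Ω) : Prop :=
  F.IsFullyNormalized P ∧ F.IsCentric P ∧ ∃ α ∈ F.autGroup P, autMap α z ≠ z

theorem mem_of_centric {F : FusionSystem S} {P : Subgroup Ω} (hP : F.IsCentric P) {z : Ω} (hz : z ∈ S)
    (hzc : ∀ y ∈ S, y * z = z * y) : z ∈ P :=
  centralizerIn_le_of_isCentric hP (mem_centralizerIn.2 ⟨hz, fun y hy => hzc y (hP.1 hy)⟩)

theorem exists_moves (hS : IsPGroup 2 S) (F : FusionSystem S) (hF : F.IsSaturated 2)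
    (hZ : F.center = ⊥) {z : Ω} (hz : z ∈ S) (hzc : ∀ y ∈ S, y * z = z * y) (hz2 : orderOf z = 2) :
    ∃ P, Moves F z P := by
  haveI : Fact (Nat.Prime 2) := ⟨Nat.prime_two⟩
  by_contra h
  push Not at h
  have hQS : Subgroup.zpowers z ≤ S := Subgroup.zpowers_le.2 hz
  have hN : F.IsNormal (Subgroup.zpowers z) := by
    refine isNormal_of_centricRadical hS hF fun P hP hc _ => ?_
    have hzP := mem_of_centric hc hz hzc
    refine ⟨Subgroup.zpowers_le.2 hzP, fun α hα => ?_⟩
    have hfix : autMap α z = z := by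
      by_contra hne
      exact h P ⟨hP, hc, α, hα, hne⟩
    have hm := (mem_autGroup_iff hc.1).1 hα
    have hpt : ∀ u ∈ Subgroup.zpowers z, autMap α u = u := by
      intro u hu
      obtain ⟨k, rfl⟩ := (Subgroup.mem_zpowers_iff.1 hu)
      rw [autMap_apply _ (zpow_mem hzP k),
        show (⟨z ^ k, zpow_mem hzP k⟩ : P) = ⟨z, hzP⟩ ^ k from rfl, map_zpow, Subgroup.coe_zpow]
      rw [autMap_apply _ hzP] at hfix
      rw [hfix]
    ext u
    exact ⟨fun ⟨v, hv, he⟩ => he ▸ (hpt v hv).symm ▸ hv, fun hu => ⟨u, hu, hpt u hu⟩⟩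
  have hsc := (stronglyClosed_iff.1 (stronglyClosed_of_isNormal hN)).2
  have hmem : ∀ u ∈ Subgroup.zpowers z, u = 1 ∨ u = z := by
    intro u hu
    obtain ⟨k, rfl⟩ := Subgroup.mem_zpowers_iff.1 hu
    have h2 : z ^ (2 : ℤ) = 1 := by
      rw [show (2 : ℤ) = ((2 : ℕ) : ℤ) from rfl, zpow_natCast, ← hz2, pow_orderOf_eq_one]
    rcases Int.even_or_odd' k with ⟨l, rfl | rfl⟩
    · exact Or.inl (by rw [zpow_mul, h2, one_zpow])
    · exact Or.inr (by rw [zpow_add, zpow_mul, h2, one_zpow, one_mul, zpow_one])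
  have hcent : F.IsCentral (Subgroup.zpowers z) := by
    refine isCentral_of_singleton hS hF hQS fun P f hf x hxP hx => ?_
    rcases hmem x hx with rfl | rfl
    · exact hf.map_one
    · have h1 := hsc (Subgroup.zpowers x) f le_rfl (hf.mono (Subgroup.zpowers_le.2 hxP)) x
        (Subgroup.mem_zpowers x)
      rcases hmem _ h1 with h2 | h2
      · have := hf.injOn hxP (one_mem P) (h2.trans hf.map_one.symm)
        rw [this, orderOf_one] at hz2
        omega
      · exact h2
  have := Cfsg.Agent.H89.le_center F hcent (Subgroup.mem_zpowers z)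
  rw [hZ, Subgroup.mem_bot] at this
  rw [this, orderOf_one] at hz2
  omega

/-- The data carried by a subgroup on which `z` moves. -/
theorem step (hS : IsPGroup 2 S) (F : FusionSystem S) (hF : F.IsSaturated 2) (hrk : RankTwo S)
    {z : Ω} (hz : z ∈ S) (hzc : ∀ y ∈ S, y * z = z * y) (hz2 : orderOf z = 2)
    {P : Subgroup Ω} (hP : Moves F z P) :
    ∃ a ∈ P, a * a = 1 ∧ a ≠ 1 ∧ z ≠ a ∧ (∀ y ∈ P, y * a = a * y) ∧
      ∃ Q : Subgroup Ω, Q = normalizerIn S P ⊓ Subgroup.centralizer ({a} : Set Ω) ∧ P ≤ Q ∧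
        (∀ x ∈ Q, x * x = 1 → x = 1 ∨ x = z ∨ x = a ∨ x = z * a) ∧
        ∃ φ ∈ F.autGroup Q, ∀ s t : Q, orderOf s = 2 → orderOf t = 2 → ∃ k : ℕ, (φ ^ k) s = t := by
  classical
  haveI : Fact (Nat.Prime 2) := ⟨Nat.prime_two⟩
  obtain ⟨hPn, hPc, α, hα, hαz⟩ := hP
  have hPS := hPc.1
  haveI := finite_of_le hPS
  haveI := finite_mulAut_of_le (P := P) hPS
  have hzP := mem_of_centric hPc hz hzc
  have hz1 : z ≠ 1 := fun h => by rw [h, orderOf_one] at hz2; omega
  have hzz : z * z = 1 := by rw [← pow_two, ← hz2, pow_orderOf_eq_one]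
  have hzc' : ∀ u : P, u * ⟨z, hzP⟩ = ⟨z, hzP⟩ * u := fun u => Subtype.ext (hzc u (hPS u.2))
  set a := autMap α z with ha
  have haP : a ∈ P := autMap_mem α hzP
  have hae : α ⟨z, hzP⟩ = ⟨a, haP⟩ := Subtype.ext (autMap_apply α hzP).symm
  have haa : a * a = 1 := by
    have h1 : α (⟨z, hzP⟩ * ⟨z, hzP⟩) = 1 := by
      rw [show (⟨z, hzP⟩ : P) * ⟨z, hzP⟩ = 1 from Subtype.ext hzz, map_one]
    rw [map_mul, hae] at h1
    exact congrArg Subtype.val h1
  have ha1 : a ≠ 1 := by
    intro h
    have : α ⟨z, hzP⟩ = 1 := by rw [hae]; exact Subtype.ext h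
    rw [MulEquiv.map_eq_one_iff] at this
    exact hz1 (congrArg Subtype.val this)
  have hne : z ≠ a := fun h => hαz h.symm
  have hac : ∀ y ∈ P, y * a = a * y := by
    intro y hy
    obtain ⟨u, hu⟩ := α.surjective ⟨y, hy⟩
    have := congrArg α (hzc' u)
    rw [map_mul, map_mul, hu, hae] at this
    exact congrArg Subtype.val this
  have hza := hzc a (hPS haP)
  refine ⟨a, haP, haa, ha1, hne, hac, _, rfl, le_inf (le_normalizerIn_self hPS)
    (fun y hy => Subgroup.mem_centralizer_singleton_iff.2 (hac y hy)), ?_, ?_⟩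
  · intro x hx hx2
    exact mem_four hrk hz (hPS haP) hx.1.1 hzz haa hx2 hza.symm (hzc x hx.1.1).symm
      (Subgroup.mem_centralizer_singleton_iff.1 hx.2).symm hz1 ha1 hne
  -- the involutions of `P`
  let I := {x : P // orderOf x = 2}
  have hmemI : ∀ x : I, (x.1 : Ω) = z ∨ (x.1 : Ω) = a ∨ (x.1 : Ω) = z * a := by
    intro x
    have h2 : (x.1 : Ω) * x.1 = 1 := by
      have h' : x.1 ^ 2 = 1 := orderOf_dvd_iff_pow_eq_one.1 (dvd_of_eq x.2)
      rw [← Subgroup.coe_mul, ← pow_two, h', Subgroup.coe_one]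
    have h1 : (x.1 : Ω) ≠ 1 := fun h => by
      have h3 := x.2
      rw [show x.1 = 1 from Subtype.ext h, orderOf_one] at h3
      omega
    rcases mem_four hrk hz (hPS haP) (hPS x.1.2) hzz haa h2 hza.symm (hzc _ (hPS x.1.2)).symm
      (hac _ x.1.2).symm hz1 ha1 hne with h | h | h | h
    exacts [absurd h h1, Or.inl h, Or.inr (Or.inl h), Or.inr (Or.inr h)]
  have hzaa : z * a ≠ a := fun h => hz1 (by simpa using h)
  have hzaz : z * a ≠ z := fun h => ha1 (by simpa using h)
  have hza1 : z * a ≠ 1 := fun h => hne (mul_right_cancel (h.trans haa.symm))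
  have hza2 : z * a * (z * a) = 1 := by
    rw [show z * a * (z * a) = z * (a * z) * a by group, hza, ← mul_assoc, hzz, one_mul, haa]
  have hinv : ∀ {u : Ω} (hu : u ∈ P), u * u = 1 → u ≠ 1 → orderOf (⟨u, hu⟩ : P) = 2 := by
    intro u hu h1 h2
    rw [Subgroup.orderOf_mk]
    exact orderOf_eq_prime (by rw [pow_two, h1]) h2
  let iz : I := ⟨⟨z, hzP⟩, hinv hzP hzz hz1⟩
  let ia : I := ⟨⟨a, haP⟩, hinv haP haa ha1⟩
  let iza : I := ⟨⟨z * a, mul_mem hzP haP⟩, hinv _ hza2 hza1⟩
  have hext : ∀ {u v : I}, (u.1 : Ω) = v.1 → u = v := fun h => Subtype.ext (Subtype.ext h)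
  haveI : Fintype I := Fintype.ofFinite I
  have hcardI : Nat.card I = 3 := by
    have huniv : (Finset.univ : Finset I) = {iz, ia, iza} := by
      refine Finset.eq_of_subset_of_card_le (fun x _ => ?_) (Finset.card_le_univ _)
      simp only [Finset.mem_insert, Finset.mem_singleton]
      rcases hmemI x with h | h | h
      exacts [Or.inl (hext h), Or.inr (Or.inl (hext h)), Or.inr (Or.inr (hext h))]
    rw [Nat.card_eq_fintype_card, ← Finset.card_univ, huniv,
      Finset.card_insert_of_notMem, Finset.card_insert_of_notMem, Finset.card_singleton]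
    · simp only [Finset.mem_singleton]
      exact fun h => hzaa (congrArg (fun u : I => (u.1 : Ω)) h).symm
    · simp only [Finset.mem_insert, Finset.mem_singleton]
      rintro (h | h)
      exacts [hne (congrArg (fun u : I => (u.1 : Ω)) h), hzaz (congrArg (fun u : I => (u.1 : Ω)) h).symm]
  let π : F.autGroup P →* Equiv.Perm I :=
    MonoidHom.mk'
      (fun β => (β.1 : MulAut P).toEquiv.subtypeEquiv fun x => by
        show orderOf x = 2 ↔ orderOf ((β.1 : MulAut P) x) = 2
        rw [MulEquiv.orderOf_eq])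
      (fun β γ => Equiv.ext fun x => Subtype.ext rfl)
  have π_apply : ∀ (β : F.autGroup P) (x : I), (π β x).1 = (β.1 : MulAut P) x.1 := fun β x => rfl
  -- Frattini
  haveI := finite_autGroup F hPS
  obtain ⟨-, R, hR⟩ := isFullyAutomized_of_isFullyNormalized hS hF hPn
  have hRmem : ∀ r : F.autGroup P, r ∈ (R : Subgroup (F.autGroup P)) ↔
      (r : MulAut P) ∈ autInducedBy S P := fun r => by rw [hR, Subgroup.mem_subgroupOf]
  have hRz : ∀ r ∈ (R : Subgroup (F.autGroup P)), π r iz = iz := by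
    intro r hr
    obtain ⟨g, hgS, hgn, he⟩ := mem_autInducedBy.1 ((hRmem r).1 hr)
    refine hext ?_
    rw [π_apply, he, coe_conjAut]
    show g * z * g⁻¹ = z
    rw [hzc g hgS, mul_inv_cancel_right]
  set K := π.ker with hK
  set T0 := (R : Subgroup (F.autGroup P)) ⊓ K with hT0
  have hT0p : IsPGroup 2 (T0.subgroupOf K) :=
    (R.isPGroup'.to_le inf_le_left).of_equiv (Subgroup.subgroupOfEquivOfLe inf_le_right).symm
  have hT0i : ¬ 2 ∣ (T0.subgroupOf K).index := by
    show ¬ 2 ∣ T0.relIndex K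
    rw [hT0, Subgroup.inf_relIndex_right]
    exact H41.not_dvd_relIndex_sylow R K
  have hfr := Sylow.normalizer_sup_eq_top (hT0p.toSylow hT0i)
  rw [IsPGroup.toSylow_coe, Subgroup.map_subgroupOf_eq_of_le inf_le_right] at hfr
  set N := Subgroup.normalizer (T0 : Set (F.autGroup P)) with hN
  have hRN : (R : Subgroup (F.autGroup P)) ≤ N := by
    intro r hr
    rw [hN, Subgroup.mem_normalizer_iff]
    intro x
    rw [hT0, Subgroup.mem_inf, Subgroup.mem_inf]
    constructor
    · rintro ⟨h1, h2⟩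
      exact ⟨mul_mem (mul_mem hr h1) (inv_mem hr), (inferInstance : K.Normal).conj_mem x h2 r⟩
    · rintro ⟨h1, h2⟩
      refine ⟨?_, ?_⟩
      · simpa [mul_assoc] using mul_mem (mul_mem (inv_mem hr) h1) hr
      · simpa [mul_assoc] using (inferInstance : K.Normal).conj_mem _ h2 r⁻¹
  obtain ⟨β, hβN, hβz⟩ : ∃ β ∈ N, π β iz ≠ iz := by
    have hmem : (⟨α, hα⟩ : F.autGroup P) ∈ N ⊔ K := by rw [hfr]; exact Subgroup.mem_top _
    obtain ⟨n, hn, k, hk, hnk⟩ := Subgroup.mem_sup_of_normal_right.1 hmem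
    refine ⟨n, hn, fun h => hαz ?_⟩
    have h1 : π ⟨α, hα⟩ iz = iz := by
      rw [← hnk, map_mul, (MonoidHom.mem_ker.1 hk : π k = 1), mul_one, h]
    have h2 := congrArg (fun u : I => (u.1 : Ω)) h1
    exact (autMap_apply α hzP).trans h2
  -- the orbit of `z` under `N` has three points
  letI : MulAction N I := MulAction.compHom I (π.comp N.subtype)
  have hsmul : ∀ (n : N) (x : I), n • x = π (n : F.autGroup P) x := fun n x => rfl
  have horb : Nat.card (MulAction.orbit N iz) = 3 := by
    have hle : Nat.card (MulAction.orbit N iz) ≤ 3 := hcardI ▸ Finite.card_subtype_le _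
    have hge : 2 ≤ Nat.card (MulAction.orbit N iz) := by
      rw [Nat.add_one_le_iff, Finite.one_lt_card_iff_nontrivial]
      refine ⟨⟨⟨iz, MulAction.mem_orbit_self iz⟩, ⟨π β iz, ⟨⟨β, hβN⟩, hsmul _ _⟩⟩, fun h => hβz ?_⟩⟩
      exact (congrArg Subtype.val h).symm
    have hodd : ¬ 2 ∣ Nat.card (MulAction.orbit N iz) := by
      intro hd
      rw [show Nat.card (MulAction.orbit N iz) = (MulAction.stabilizer N iz).index from
        (Nat.card_congr (MulAction.orbitEquivQuotientStabilizer N iz)).trans rfl] at hd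
      have hst : (R : Subgroup (F.autGroup P)).subgroupOf N ≤ MulAction.stabilizer N iz :=
        fun r hr => (hsmul r iz).trans (hRz _ hr)
      have h1 : 2 ∣ (R : Subgroup (F.autGroup P)).relIndex N :=
        hd.trans (Subgroup.index_dvd_of_le hst)
      exact R.not_dvd_index (h1.trans (Subgroup.relIndex_dvd_index_of_le hRN))
    omega
  obtain ⟨n, hnN, hn3⟩ : ∃ n ∈ N, orderOf (π n) = 3 := by
    haveI : Fact (Nat.Prime 3) := ⟨Nat.prime_three⟩
    have hd : 3 ∣ Nat.card (π.comp N.subtype).range := by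
      have h1 : Nat.card (MulAction.orbit (π.comp N.subtype).range iz) = 3 := by
        have he : MulAction.orbit (π.comp N.subtype).range iz = MulAction.orbit N iz := by
          ext x
          constructor
          · rintro ⟨⟨_, g, rfl⟩, rfl⟩; exact ⟨g, rfl⟩
          · rintro ⟨g, rfl⟩; exact ⟨⟨_, g, rfl⟩, rfl⟩
        rw [he]; exact horb
      rw [← h1, show Nat.card (MulAction.orbit (π.comp N.subtype).range iz) =
        (MulAction.stabilizer (π.comp N.subtype).range iz).index from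
        (Nat.card_congr (MulAction.orbitEquivQuotientStabilizer _ iz)).trans rfl]
      exact Subgroup.index_dvd_card _
    obtain ⟨g, hg⟩ := exists_prime_orderOf_dvd_card' 3 hd
    obtain ⟨n, hn⟩ := g.2
    exact ⟨n, n.2, by rw [show π (n : F.autGroup P) = (g : Equiv.Perm I) from hn, Subgroup.orderOf_coe, hg]⟩
  -- extend to `Q`
  set Q := normalizerIn S P ⊓ Subgroup.centralizer ({a} : Set Ω) with hQ
  have hPQ : P ≤ Q := le_inf (le_normalizerIn_self hPS)
    (fun y hy => Subgroup.mem_centralizer_singleton_iff.2 (hac y hy))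
  have hi := isIso_autMap hPS n.2
  have hcen : ∀ g ∈ Q, ∀ x : I, g * (x.1 : Ω) = x.1 * g := by
    intro g hg x
    have h1 := hzc g hg.1.1
    have h2 : g * a = a * g := Subgroup.mem_centralizer_singleton_iff.1 hg.2
    rcases hmemI x with h | h | h <;> rw [h]
    exacts [h1, h2, by rw [← mul_assoc, h1, mul_assoc, h2, ← mul_assoc]]
  have hExt : ∀ g ∈ Q, InExt S P (autMap (n : MulAut P)) g := by
    intro g hg
    have hgn : g ∈ Subgroup.normalizer (P : Set Ω) := hg.1.2
    let c : F.autGroup P := ⟨conjAut hgn, conjAut_mem_autGroup F hPS hg.1⟩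
    have hc : c ∈ T0 := by
      refine ⟨(hRmem c).2 (mem_autInducedBy.2 ⟨g, hg.1.1, hgn, rfl⟩), MonoidHom.mem_ker.2 ?_⟩
      refine Equiv.ext fun x => hext ?_
      rw [π_apply]
      show g * (x.1 : Ω) * g⁻¹ = x.1
      rw [hcen g hg x, mul_inv_cancel_right]
    have hc' := ((Subgroup.mem_normalizer_iff.1 hnN) c).1 hc
    obtain ⟨h, hhS, hhn, he⟩ := mem_autInducedBy.1 ((hRmem _).1 hc'.1)
    refine ⟨hg.1.1, hgn, h, hhS, fun y hy => ?_⟩
    have hy' : g * y * g⁻¹ ∈ P := (Subgroup.mem_normalizer_iff.1 hgn y).1 hy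
    have he' : (n : MulAut P) * (conjAut hgn) = conjAut hhn * (n : MulAut P) := by
      rw [← he]
      show _ = (n : MulAut P) * conjAut hgn * (n : MulAut P)⁻¹ * (n : MulAut P)
      rw [inv_mul_cancel_right]
    have h3 := congrArg (fun e : MulAut P => ((e ⟨y, hy⟩ : P) : Ω)) he'
    rw [autMap_apply _ hy', autMap_apply _ hy]
    exact h3
  obtain ⟨f, hf, hfe⟩ := receptive_extend (receptive_of_isFullyNormalized hS hF hPn) hi hExt
  rw [sup_eq_left.2 hPQ] at hf
  haveI := finite_of_le (show Q ≤ S from fun x hx => hx.1.1)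
  have hfQ : ∀ x ∈ Q, f x ∈ Q := by
    intro x hx
    have h1 : f x ∈ normalizerIn S P := hi.mem_normalizerIn_of_extends hf hPQ hfe hx hx.1.2
    refine ⟨h1, Subgroup.mem_centralizer_singleton_iff.2 ?_⟩
    obtain ⟨u, hu, hua⟩ := hi.exists_preimage haP
    have h2 : x * u = u * x := by
      by_cases hu1 : u = 1
      · subst hu1; simp
      refine hcen x hx ⟨⟨u, hu⟩, hinv hu ?_ hu1⟩
      refine hi.isMap.injOn (mul_mem hu hu) (one_mem P) ?_
      rw [hi.isMap.map_mul hu hu, hua, haa, hi.isMap.map_one]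
    have h3 : f u = a := (hfe u hu).trans hua
    rw [← h3, ← hf.map_mul hx (hPQ hu), ← hf.map_mul (hPQ hu) hx, h2]
  obtain ⟨φ, hφ, hφe⟩ := (isIso_of_mapsTo hf hfQ).exists_aut
  refine ⟨φ, hφ, fun s t hs ht => ?_⟩
  have hinI : ∀ {u : Q}, orderOf u = 2 → ∃ x : I, (x.1 : Ω) = u := by
    intro u hu
    have h2 : (u : Ω) * u = 1 := by
      rw [← Subgroup.coe_mul, ← pow_two, ← hu, pow_orderOf_eq_one, Subgroup.coe_one]
    rcases mem_four hrk hz (hPS haP) u.2.1.1 hzz haa h2 hza.symm (hzc _ u.2.1.1).symm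
      (Subgroup.mem_centralizer_singleton_iff.1 u.2.2).symm hz1 ha1 hne with h | h | h | h
    · exfalso
      rw [show u = 1 from Subtype.ext h, orderOf_one] at hu
      omega
    exacts [⟨iz, h.symm⟩, ⟨ia, h.symm⟩, ⟨iza, h.symm⟩]
  obtain ⟨xs, hxs⟩ := hinI hs
  obtain ⟨xt, hxt⟩ := hinI ht
  obtain ⟨k, hk⟩ := transitive_of_orderOf_three hcardI (π n) hn3 xs xt
  have hstep : ∀ (k : ℕ) (x : I) (hx : (x.1 : Ω) ∈ Q),
      ((φ ^ k) ⟨x.1, hx⟩ : Ω) = (((π n) ^ k) x).1 := by
    intro k
    induction k with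
    | zero => intro x hx; rfl
    | succ k ih =>
      intro x hx
      rw [pow_succ', pow_succ', MulAut.mul_apply, Equiv.Perm.mul_apply,
        show (φ ^ k) ⟨x.1, hx⟩ = ⟨_, hPQ (((π n) ^ k) x).1.2⟩ from Subtype.ext (ih x hx)]
      rw [← autMap_apply φ, hφe _ (hPQ (((π n) ^ k) x).1.2), hfe _ (((π n) ^ k) x).1.2,
        autMap_apply _ (((π n) ^ k) x).1.2]
      rfl
  refine ⟨k, Subtype.ext ?_⟩
  have := hstep k xs (hxs ▸ s.2)
  rw [hk, hxt] at this
  rw [← this]
  congr 3
  exact Subtype.ext hxs.symm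

theorem main (hS : IsPGroup 2 S) (F : FusionSystem S) (hF : F.IsSaturated 2) (hrk : RankTwo S)
    (hr1 : ¬ ∀ A : Subgroup Ω, A ≤ S → IsMulCommutative A → (∀ a ∈ A, a ^ 2 = 1) → Nat.card A ≤ 2)
    (hZ : F.center = ⊥) {K : Type*} [Field K] [Fintype K] (hK : Fintype.card K = 16)
    (T : Sylow 2 (Cfsg.PSU 3 K 4)) : Shape ↥S T := by
  classical
  haveI : Fact (Nat.Prime 2) := ⟨Nat.prime_two⟩
  -- a central involution
  obtain ⟨z, hz, hzc, hz2⟩ : ∃ z ∈ S, (∀ y ∈ S, y * z = z * y) ∧ orderOf z = 2 := by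
    haveI : Nontrivial S := by
      rw [Subgroup.nontrivial_iff_ne_bot]
      rintro rfl
      refine hr1 fun A hA _ _ => ?_
      rw [le_bot_iff.1 hA, Subgroup.card_bot]
      norm_num
    haveI := hS.center_nontrivial
    obtain ⟨x, hx⟩ := exists_ne (1 : Subgroup.center S)
    obtain ⟨k, hk⟩ := IsPGroup.iff_orderOf.1 (hS.to_subgroup (Subgroup.center S)) x
    have hd : 2 ∣ Nat.card (Subgroup.center S) := by
      refine dvd_trans ?_ (orderOf_dvd_natCard x)
      rw [hk]
      refine dvd_pow_self 2 fun h => hx (orderOf_eq_one_iff.1 (by rw [hk, h, pow_zero]))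
    obtain ⟨u, hu⟩ := exists_prime_orderOf_dvd_card' 2 hd
    refine ⟨(u : S), (u : S).2, fun y hy => congrArg Subtype.val (Subgroup.mem_center_iff.1 u.2 ⟨y, hy⟩), ?_⟩
    rw [Subgroup.orderOf_coe, Subgroup.orderOf_coe, hu]
  have hz1 : z ≠ 1 := fun h => by rw [h, orderOf_one] at hz2; omega
  have hzz : z * z = 1 := by rw [← pow_two, ← hz2, pow_orderOf_eq_one]
  -- a largest subgroup moving `z`
  obtain ⟨P, hP, hmax⟩ : ∃ P, Moves F z P ∧ ∀ P', Moves F z P' → Nat.card P' ≤ Nat.card P := by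
    obtain ⟨P₀, hP₀⟩ := exists_moves hS F hF hZ hz hzc hz2
    have hsub : ∀ P, Moves F z P → Nat.card P ≤ Nat.card S := fun P h => Subgroup.card_le_of_le h.2.1.1
    have hex : ∃ m, m ≤ Nat.card S ∧ ∃ P, Moves F z P ∧ Nat.card P = m :=
      ⟨_, hsub P₀ hP₀, P₀, hP₀, rfl⟩
    set p := fun m => ∃ P, Moves F z P ∧ Nat.card P = m
    obtain ⟨m, hm, hpm⟩ := hex
    obtain ⟨P, hP, hPm⟩ := Nat.findGreatest_spec (P := p) hm hpm
    exact ⟨P, hP, fun P' h' => hPm ▸ Nat.le_findGreatest (hsub P' h') ⟨P', h', rfl⟩⟩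
  obtain ⟨a, haP, haa, ha1, hne, hac, Q, hQdef, hPQ, hQinv, φ, hφ, htrans⟩ :=
    step hS F hF hrk hz hzc hz2 hP
  have hPS := hP.2.1.1
  have hzP := mem_of_centric hP.2.1 hz hzc
  have hQS : Q ≤ S := hQdef ▸ fun x hx => hx.1.1
  haveI := finite_of_le hQS
  have hord : ∀ {u : Ω} {H : Subgroup Ω} (hu : u ∈ H), u * u = 1 → u ≠ 1 →
      orderOf (⟨u, hu⟩ : H) = 2 := by
    intro u H hu h1 h2
    rw [Subgroup.orderOf_mk]
    exact orderOf_eq_prime (by rw [pow_two, h1]) h2
  -- maximality
  have hQP : Q = P := by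
    by_contra hQne
    have hlt : Nat.card P < Nat.card Q := by
      refine lt_of_le_of_ne (Subgroup.card_le_of_le hPQ) fun h => hQne ?_
      exact (Subgroup.eq_of_le_of_card_ge hPQ h.ge).symm
    have hQc : F.IsCentric Q := isCentric_of_le hP.2.1 hPQ hQS
    obtain ⟨Q', hQQ', hQn'⟩ := exists_isFullyNormalized F hQS
    have hQc' := isCentric_of_isConj hQc hQQ'
    obtain ⟨f, hf⟩ := isConj_iff.1 hQQ'
    have hzQ' := mem_of_centric hQc' hz hzc
    obtain ⟨u, hu, hfu⟩ := hf.exists_preimage hzQ'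
    have hmv : Moves F z Q' := by
      refine ⟨hQn', hQc', hf.autEquiv φ, hf.autEquiv_mem_autGroup hφ, fun h => ?_⟩
      rw [← hfu, hf.autMap_autEquiv φ hu] at h
      have hφu : φ ⟨u, hu⟩ = ⟨u, hu⟩ := Subtype.ext (by
        rw [← autMap_apply φ hu]
        exact hf.isMap.injOn (autMap_mem φ hu) hu h)
      have hu2 : orderOf (⟨u, hu⟩ : Q) = 2 := by
        refine hord hu (hf.isMap.injOn (mul_mem hu hu) (one_mem Q) ?_) fun h1 => hz1 ?_
        · rw [hf.isMap.map_mul hu hu, hfu, hzz, hf.isMap.map_one]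
        · rw [← hfu, h1, hf.isMap.map_one]
      have hall : ∀ k : ℕ, (φ ^ k) ⟨u, hu⟩ = ⟨u, hu⟩ := by
        intro k
        induction k with
        | zero => rfl
        | succ k ih => rw [pow_succ', MulAut.mul_apply, ih, hφu]
      obtain ⟨k₁, hk₁⟩ := htrans _ ⟨z, hPQ hzP⟩ hu2 (hord _ hzz hz1)
      obtain ⟨k₂, hk₂⟩ := htrans _ ⟨a, hPQ haP⟩ hu2 (hord _ haa ha1)
      rw [hall] at hk₁ hk₂
      exact hne (congrArg Subtype.val (hk₁.symm.trans hk₂))
    have := hmax Q' hmv
    rw [← card_eq_of_isConj hQQ'] at this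
    omega
  subst hQP
  -- `Q` has the two shapes
  have h2Q : Cfsg.PRankLE 2 2 Q := by
    intro A hA hA2
    rw [← Subgroup.card_map_of_injective Q.subtype_injective]
    refine hrk _ ((Subgroup.map_subtype_le A).trans hQS) ⟨⟨?_⟩⟩ ?_
    · rintro ⟨_, x, hx, rfl⟩ ⟨_, y, hy, rfl⟩
      have h := congrArg (fun u : A => ((u : Q) : Ω)) (hA.is_comm.comm ⟨x, hx⟩ ⟨y, hy⟩)
      exact Subtype.ext h
    · rintro _ ⟨x, hx, rfl⟩
      rw [← map_pow, hA2 x hx, map_one]
  have hzQ := hzP
  have haQ := haP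
  have h1Q : ¬ Cfsg.PRankLE 2 1 Q := by
    intro h
    set A : Subgroup Q := Subgroup.closure {⟨z, hzQ⟩, ⟨a, haQ⟩} with hA
    have hcm : ∀ x y : Q, x ∈ ({⟨z, hzQ⟩, ⟨a, haQ⟩} : Set Q) → y ∈ ({⟨z, hzQ⟩, ⟨a, haQ⟩} : Set Q) →
        x * y = y * x := by
      intro x y hx hy
      simp only [Set.mem_insert_iff, Set.mem_singleton_iff] at hx hy
      have := hzc a (hQS haQ)
      rcases hx with rfl | rfl <;> rcases hy with rfl | rfl <;>
        first | rfl | exact Subtype.ext this | exact Subtype.ext this.symm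
    have hcl : ∀ x ∈ A, ∀ y ∈ A, x * y = y * x := by
      intro x hx y hy
      induction hx, hy using Subgroup.closure_induction₂ with
      | mem u v hu hv => exact hcm u v hu hv
      | one_left v _ => simp
      | one_right v _ => simp
      | mul_left u v w _ _ _ h1 h2 => exact (Commute.mul_left h1 h2 : _)
      | mul_right u v w _ _ _ h1 h2 => exact (Commute.mul_right h1 h2 : _)
      | inv_left u v _ _ h => exact (Commute.inv_left h : _)
      | inv_right u v _ _ h => exact (Commute.inv_right h : _)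
    have hsq : ∀ x ∈ A, x ^ 2 = 1 := by
      intro x hx
      induction hx using Subgroup.closure_induction with
      | mem u hu =>
        simp only [Set.mem_insert_iff, Set.mem_singleton_iff] at hu
        rcases hu with rfl | rfl <;> rw [pow_two] <;> exact Subtype.ext (by assumption)
      | one => simp
      | mul u v hu hv h1 h2 => rw [(show Commute u v from hcl u hu v hv).mul_pow, h1, h2, one_mul]
      | inv u _ h => rw [inv_pow, h, inv_one]
    have hle := h A ⟨⟨fun x y => Subtype.ext (hcl x x.2 y y.2)⟩⟩ hsq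
    have h3 : (({1, ⟨z, hzQ⟩, ⟨a, haQ⟩} : Finset Q) : Set Q) ⊆ (A : Set Q) := by
      intro u hu
      simp only [Finset.coe_insert, Finset.coe_singleton, Set.mem_insert_iff, Set.mem_singleton_iff] at hu
      rcases hu with rfl | rfl | rfl
      exacts [one_mem _, Subgroup.subset_closure (by simp), Subgroup.subset_closure (by simp)]
    have hc3 : ({1, ⟨z, hzQ⟩, ⟨a, haQ⟩} : Finset Q).card = 3 := by
      rw [Finset.card_insert_of_notMem, Finset.card_insert_of_notMem, Finset.card_singleton]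
      · simpa [Subtype.ext_iff] using hne
      · simp [Subtype.ext_iff, Ne.symm hz1, Ne.symm ha1]
    have := Set.ncard_le_ncard h3 (Set.toFinite _)
    rw [Set.ncard_coe_finset, hc3, ← Nat.card_coe_set_eq] at this
    have h5 : Nat.card ↥(A : Set Q) = Nat.card A := rfl
    omega
  have hshape := S1237.result (hS.to_le hQS) h2Q h1Q φ htrans hK T
  by_cases hQeq : Q = S
  · subst hQeq
    rcases hshape with h | h
    exacts [Or.inr (Or.inr (Or.inr (Or.inl h))), Or.inr (Or.inr (Or.inr (Or.inr h)))]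
  have hlt : Q < normalizerIn S Q :=
    Cfsg.Agent.FusionSys.lt_normalizerIn hS (lt_of_le_of_ne hQS hQeq)
  obtain ⟨w, hwN, hwQ⟩ := SetLike.exists_of_lt hlt
  have hnotC : ∀ {x : Ω}, x ∈ normalizerIn S Q → x * a = a * x → x ∈ Q := by
    intro x hx hxa
    rw [hQdef]
    exact ⟨hx, Subgroup.mem_centralizer_singleton_iff.2 hxa⟩
  have hsw : ∀ {x : Ω}, x ∈ normalizerIn S Q → x ∉ Q → x * a * x⁻¹ = z * a := by
    intro x hx hxQ
    have hm : x * a * x⁻¹ ∈ Q := conj_mem_of_mem_normalizerIn hx haQ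
    have h2 : x * a * x⁻¹ * (x * a * x⁻¹) = 1 := by
      rw [show x * a * x⁻¹ * (x * a * x⁻¹) = x * (a * a) * x⁻¹ by group, haa, mul_one, mul_inv_cancel]
    rcases hQinv _ hm h2 with h | h | h | h
    · exact absurd (conj_eq_one_iff.1 h) ha1
    · exfalso
      refine hne ?_
      have hxz := hzc x hx.1
      calc z = x⁻¹ * (z * x) := by rw [← hxz, inv_mul_cancel_left]
        _ = x⁻¹ * (x * a * x⁻¹ * x) := by rw [h]
        _ = a := by group
    · exact absurd (hnotC hx (mul_inv_eq_iff_eq_mul.1 h)) hxQ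
    · exact h
  have hwa := hsw hwN hwQ
  have hidx2 : ∀ {x : Ω}, x ∈ normalizerIn S Q → x ∉ Q → w⁻¹ * x ∈ Q := by
    intro x hx hxQ
    refine hnotC (mul_mem (inv_mem hwN) hx) ?_
    have h1 : x * a = z * a * x := mul_inv_eq_iff_eq_mul.1 (hsw hx hxQ)
    have h2 : w⁻¹ * (z * a) = a * w⁻¹ := by rw [← hwa]; group
    rw [mul_assoc, h1, ← mul_assoc, h2, mul_assoc]
  set N := normalizerIn S Q with hNdef
  haveI := finite_of_le (show N ≤ S from normalizerIn_le)
  have hQN : Q ≤ N := le_normalizerIn_self hQS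
  have hindex : (Q.subgroupOf N).index = 2 := by
    rw [Subgroup.index_eq_two_iff]
    refine ⟨⟨w, hwN⟩⁻¹, fun x => ?_⟩
    simp only [Subgroup.mem_subgroupOf, Subgroup.coe_mul, Subgroup.coe_inv]
    by_cases hx : (x : Ω) ∈ Q
    · refine Or.inr ⟨hx, fun h => hwQ ?_⟩
      have := mul_mem (inv_mem hx) h
      rw [inv_mul_cancel_left] at this
      exact inv_mem_iff.1 this
    · refine Or.inl ⟨?_, hx⟩
      have h1 : (x : Ω)⁻¹ ∉ Q := fun h => hx (inv_mem_iff.1 h)
      have h2 := hidx2 (inv_mem x.2) h1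
      have h3 := inv_mem h2
      rw [mul_inv_rev, inv_inv, inv_inv] at h3
      -- `x * w` and `x * w⁻¹` differ by an element of `Q`
      have hww : w⁻¹ * w⁻¹ ∈ Q := hidx2 (inv_mem hwN) fun h => hwQ (inv_mem_iff.1 h)
      have h4 := mul_mem h3 hww
      rwa [show (x : Ω) * w * (w⁻¹ * w⁻¹) = x * w⁻¹ by group] at h4
  have hww : w * w ∈ Q := by
    have := hidx2 (inv_mem hwN) fun h => hwQ (inv_mem_iff.1 h)
    have h2 := inv_mem this
    rwa [mul_inv_rev, inv_inv] at h2
  rcases hshape with ⟨m, hm, ⟨e⟩⟩ | ⟨⟨e⟩⟩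
  · have hcomm : ∀ {x y : Ω}, x ∈ Q → y ∈ Q → x * y = y * x := by
      intro x y hx hy
      have h : e ⟨x, hx⟩ * e ⟨y, hy⟩ = e ⟨y, hy⟩ * e ⟨x, hx⟩ := mul_comm _ _
      rw [← map_mul, ← map_mul] at h
      exact congrArg Subtype.val (e.injective h)
    have hcardQ : Nat.card Q = 2 ^ m * 2 ^ m := by
      rw [Nat.card_congr e.toEquiv]
      show Nat.card (ZMod (2 ^ m) × ZMod (2 ^ m)) = _
      rw [Nat.card_prod, Nat.card_zmod]
    rcases eq_or_lt_of_le hm with rfl | hm2
    · -- self-centralising four-group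
      have hz2' : ∀ u : ZMod (2 ^ 1), u + u = 0 := by
        exact add_self_eq_zero_zmod_two
      have hCA : Subgroup.centralizer ((Q.subgroupOf S : Subgroup S) : Set S) = Q.subgroupOf S := by
        refine le_antisymm (fun x hx => ?_) fun x hx => Subgroup.mem_centralizer_iff.2 fun y hy =>
          Subtype.ext (hcomm hy hx)
        refine Subgroup.mem_subgroupOf.2 (centralizerIn_le_of_isCentric hP.2.1
          (mem_centralizerIn.2 ⟨x.2, fun y hy => ?_⟩))
        exact congrArg Subtype.val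
          (Subgroup.mem_centralizer_iff.1 hx ⟨y, hQS hy⟩ (Subgroup.mem_subgroupOf.2 hy))
      rcases dihedral_or_semidihedral (X := S) hS (Q.subgroupOf S)
        (by rw [Nat.card_congr (Subgroup.subgroupOfEquivOfLe hQS).toEquiv, hcardQ]; norm_num)
        (fun x hx => Subtype.ext (by
          have h : e ⟨x, hx⟩ * e ⟨x, hx⟩ = 1 := by
            apply Multiplicative.toAdd.injective
            rw [toAdd_mul, toAdd_one]
            exact Prod.ext (hz2' _) (hz2' _)
          rw [← map_mul, MulEquiv.map_eq_one_iff] at h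
          exact congrArg (fun u : Q => (u : Ω)) h))
        hCA (fun h => hQeq (le_antisymm hQS (Subgroup.subgroupOf_eq_top.1 h))) with h | h
      exacts [Or.inl h, Or.inr (Or.inl h)]
    · -- wreathed
      have hwr : Cfsg.IsWreathed N := isWreathed_of_index_two (Q.subgroupOf N) m hm2
        ((Subgroup.subgroupOfEquivOfLe hQN).trans e) hindex ⟨w, hwN⟩
        (fun h => hwQ (Subgroup.mem_subgroupOf.1 h)) ⟨a, hQN haQ⟩ (Subgroup.mem_subgroupOf.2 haQ)
        (hord _ haa ha1) (fun h => by
          have := congrArg Subtype.val h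
          simp only [Subgroup.coe_mul, Subgroup.coe_inv] at this
          rw [hwa] at this
          exact hz1 (by simpa using this))
      have hNS : N = S := by
        by_contra hne'
        have hlt' : N < normalizerIn S N :=
          Cfsg.Agent.FusionSys.lt_normalizerIn hS (lt_of_le_of_ne normalizerIn_le hne')
        obtain ⟨x, hx, hxN⟩ := SetLike.exists_of_lt hlt'
        refine hxN ⟨hx.1, mem_normalizer_of_maps fun y hy => ?_⟩
        -- the conjugate of `Q` by `x` is an abelian subgroup of `N` of the same order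
        set Q' := (Q.map (MulAut.conj x).toMonoidHom).subgroupOf N with hQ'
        have hle : Q.map (MulAut.conj x).toMonoidHom ≤ N := by
          rintro _ ⟨u, hu, rfl⟩
          exact (Subgroup.mem_normalizer_iff.1 hx.2 u).1 (hQN hu)
        have hN' : Nat.card N = 2 ^ (2 * m + 1) := by
          rw [← (Q.subgroupOf N).card_mul_index, hindex,
            Nat.card_congr (Subgroup.subgroupOfEquivOfLe hQN).toEquiv, hcardQ]
          ring
        obtain ⟨k, x₁, y₁, z₁, hgen⟩ := H39.exists_wGen hwr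
        obtain rfl := hgen.eq_n hN'
        have e1 := hgen.abelian_eq_base (U := Q.subgroupOf N)
          ⟨⟨fun u v => Subtype.ext (Subtype.ext (hcomm u.2 v.2))⟩⟩
          (by rw [Nat.card_congr (Subgroup.subgroupOfEquivOfLe hQN).toEquiv, hcardQ]; ring)
        have e2 := hgen.abelian_eq_base (U := Q')
          ⟨⟨fun u v => by
            obtain ⟨u', hu', hue⟩ := u.2
            obtain ⟨v', hv', hve⟩ := v.2
            refine Subtype.ext (Subtype.ext ?_)
            show ((u : N) : Ω) * ((v : N) : Ω) = ((v : N) : Ω) * ((u : N) : Ω)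
            rw [show ((u : N) : Ω) = MulAut.conj x u' from hue.symm,
              show ((v : N) : Ω) = MulAut.conj x v' from hve.symm, ← map_mul, ← map_mul, hcomm hu' hv']⟩⟩
          (by
            rw [hQ', Nat.card_congr (Subgroup.subgroupOfEquivOfLe hle).toEquiv,
              Subgroup.card_map_of_injective (MulAut.conj x).injective, hcardQ]
            ring)
        have hmem : x * y * x⁻¹ ∈ Q.map (MulAut.conj x).toMonoidHom := ⟨y, hy, rfl⟩
        have : (⟨_, hle hmem⟩ : N) ∈ Q' := Subgroup.mem_subgroupOf.2 hmem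
        rw [e2, ← e1] at this
        exact Subgroup.mem_subgroupOf.1 this
      exact Or.inr (Or.inr (Or.inl (hNS ▸ hwr)))
  · -- the Sylow 2-subgroup of `U₃(4)` has no such overgroup
    exfalso
    haveI : H33.SylU.QField K 2 := ⟨by rw [hK]; norm_num⟩
    obtain ⟨e'⟩ := H33.SylU.nonempty_equiv_PSU (F := K) (n := 2) T
    obtain ⟨-, hk4, hcl, -, hquo, hqsq⟩ := S1248.facts (e'.trans e.symm)
    have hcenter : ∀ u ∈ Subgroup.center Q, u = 1 ∨ u = ⟨z, hzQ⟩ ∨ u = ⟨a, haQ⟩ ∨
        u = ⟨z, hzQ⟩ * ⟨a, haQ⟩ := by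
      intro u hu
      have h2 : u * u = 1 := congrArg Subtype.val
        (IsKleinFour.mul_self (G := Subgroup.center Q) ⟨u, hu⟩)
      rcases hQinv u u.2 (congrArg Subtype.val h2) with h | h | h | h
      exacts [Or.inl (Subtype.ext h), Or.inr (Or.inl (Subtype.ext h)),
        Or.inr (Or.inr (Or.inl (Subtype.ext h))), Or.inr (Or.inr (Or.inr (Subtype.ext h)))]
    have hinv : ∀ x : Q, x * x = 1 → x ∈ Subgroup.center Q := by
      intro x hx
      by_cases h1 : x = 1
      · exact h1 ▸ one_mem _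
      rw [hcl]
      exact Subgroup.subset_closure (orderOf_eq_prime (by rw [pow_two, hx]) h1)
    have hsq : ∀ x : Q, x * x ∈ Subgroup.center Q := by
      intro x
      have := hqsq (QuotientGroup.mk' _ x)
      rw [← map_pow, QuotientGroup.mk'_apply, QuotientGroup.eq_one_iff, pow_two] at this
      exact this
    set zQ : Q := ⟨z, hzQ⟩ with hzQd
    set aQ : Q := ⟨a, haQ⟩ with haQd
    have hzQ2 : zQ * zQ = 1 := Subtype.ext hzz
    have hzQ1 : zQ ≠ 1 := fun h => hz1 (congrArg Subtype.val h)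
    have hzaQ : zQ ≠ aQ := fun h => hne (congrArg Subtype.val h)
    let t : MulAut Q := conjAut hwN.2
    have htz : t zQ = zQ := Subtype.ext (by
      show w * z * w⁻¹ = z
      rw [hzc w hwN.1, mul_inv_cancel_right])
    have hta : t aQ = zQ * aQ := Subtype.ext hwa
    -- name the images of `z`
    obtain ⟨k₁, hk₁⟩ := htrans zQ aQ (hord _ hzz hz1) (hord _ haa ha1)
    have hφz1 : φ zQ ≠ 1 := fun h => hzQ1 ((MulEquiv.map_eq_one_iff φ).1 h)
    have hφzc : φ zQ ∈ Subgroup.center Q := map_mem_center φ (hinv _ hzQ2)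
    have hφzz : φ zQ ≠ zQ := by
      intro h
      have hall : ∀ k : ℕ, (φ ^ k) zQ = zQ := fun k => by
        induction k with
        | zero => rfl
        | succ k ih => rw [pow_succ', MulAut.mul_apply, ih, h]
      exact hzaQ ((hall k₁).symm.trans hk₁)
    -- `b = φ z`, and then `φ b = z b`
    set b := φ zQ with hb
    have hbb : b * b = 1 := by rw [hb, ← map_mul, hzQ2, map_one]
    have htb : t b = zQ * b := by
      rcases hcenter b hφzc with h | h | h | h
      · exact absurd h hφz1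
      · exact absurd h hφzz
      · rw [h]; exact hta
      · rw [h, map_mul, htz, hta, ← mul_assoc, hzQ2, one_mul]
    have hZb : ∀ u ∈ Subgroup.center Q, u = 1 ∨ u = zQ ∨ u = b ∨ u = zQ * b := by
      intro u hu
      rcases hcenter b hφzc with h | h | h | h
      · exact absurd h hφz1
      · exact absurd h hφzz
      · rw [h]; exact hcenter u hu
      · rw [h, ← mul_assoc, hzQ2, one_mul]
        rcases hcenter u hu with g | g | g | g
        exacts [Or.inl g, Or.inr (Or.inl g), Or.inr (Or.inr (Or.inr g)), Or.inr (Or.inr (Or.inl g))]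
    have hzb1 : zQ * b ≠ 1 := fun h => hφzz (mul_left_cancel (hzQ2.trans h.symm)).symm
    have hφb : φ b = zQ * b := by
      rcases hZb _ (map_mem_center φ hφzc) with h | h | h | h
      · exact absurd ((MulEquiv.map_eq_one_iff φ).1 h) hφz1
      · exfalso
        -- then `z * b` is fixed by `φ`
        have hfix : φ (zQ * b) = zQ * b := by
          rw [map_mul, h, ← hb, Subgroup.mem_center_iff.1 (hinv _ hzQ2)]
        have hall : ∀ k : ℕ, (φ ^ k) (zQ * b) = zQ * b := fun k => by
          induction k with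
          | zero => rfl
          | succ k ih => rw [pow_succ', MulAut.mul_apply, ih, hfix]
        have ho : orderOf (zQ * b) = 2 := by
          refine orderOf_eq_prime ?_ hzb1
          rw [pow_two, show zQ * b * (zQ * b) = zQ * (b * zQ) * b by group,
            Subgroup.mem_center_iff.1 (hinv _ hzQ2), ← mul_assoc, hzQ2, one_mul, hbb]
        obtain ⟨k, hk⟩ := htrans (zQ * b) zQ ho (hord _ hzz hz1)
        rw [hall] at hk
        exact hφz1 (by simpa using hk)
      · exact absurd (φ.injective (h.trans hb)) hφzz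
      · exact h
    have hφzb : φ (zQ * b) = zQ := by
      rw [map_mul, ← hb, hφb, ← Subgroup.mem_center_iff.1 (hinv _ hzQ2), ← mul_assoc, hbb, one_mul]
    set y : MulAut Q := t * φ * t⁻¹ * φ⁻¹ with hy
    have hti : ∀ {u v : Q}, t u = v → t⁻¹ v = u := fun h => by rw [← h, MulAut.inv_apply_self]
    have hφi : ∀ {u v : Q}, φ u = v → φ⁻¹ v = u := fun h => by rw [← h, MulAut.inv_apply_self]
    have htzb : t (zQ * b) = b := by rw [map_mul, htz, htb, ← mul_assoc, hzQ2, one_mul]
    have hyz : y zQ = b := by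
      show t (φ (t⁻¹ (φ⁻¹ zQ))) = b
      rw [hφi hφzb, hti htb, hφb, htzb]
    have hyb : y b = zQ * b := by
      show t (φ (t⁻¹ (φ⁻¹ b))) = zQ * b
      rw [hφi hb.symm, hti htz, ← hb, htb]
    have hconj : ∀ (g x : Q), QuotientGroup.mk' (Subgroup.center Q) (g * x * g⁻¹) =
        QuotientGroup.mk' (Subgroup.center Q) x := by
      intro g x
      have hab : ∀ p q : Q ⧸ Subgroup.center Q, p * q = q * p := by
        intro p q
        have h1 : ∀ r : Q ⧸ Subgroup.center Q, r * r = 1 := fun r => by rw [← pow_two]; exact hqsq r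
        calc p * q = p * ((p * q) * (p * q)) * q := by rw [h1, mul_one]
          _ = (p * p) * (q * p) * (q * q) := by group
          _ = q * p := by rw [h1, h1, one_mul, mul_one]
      rw [map_mul, map_mul, map_inv, hab, inv_mul_cancel_left]
    have htt : ∀ x, QuotientGroup.mk' (Subgroup.center Q) (t (t x)) =
        QuotientGroup.mk' (Subgroup.center Q) x := by
      intro x
      rw [← hconj ⟨w * w, hww⟩ x]
      congr 1
      refine Subtype.ext ?_
      show w * (w * (x : Ω) * w⁻¹) * w⁻¹ = w * w * (x : Ω) * (w * w)⁻¹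
      group
    have htinv : ∀ x, QuotientGroup.mk' (Subgroup.center Q) (t⁻¹ x) =
        QuotientGroup.mk' (Subgroup.center Q) (t x) := by
      intro x
      have := congr_map t⁻¹ (htt x)
      rw [MulAut.inv_apply_self] at this
      exact this.symm
    have hty : ∀ x, QuotientGroup.mk' (Subgroup.center Q) (t (y x)) =
        QuotientGroup.mk' (Subgroup.center Q) (y⁻¹ (t x)) := by
      intro x
      have hl : QuotientGroup.mk' (Subgroup.center Q) (t (y x)) =
          QuotientGroup.mk' (Subgroup.center Q) (φ (t⁻¹ (φ⁻¹ x))) := htt _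
      have hr : y⁻¹ (t x) = φ (t (φ⁻¹ x)) := by
        rw [hy]
        simp [MulAut.mul_apply, mul_inv_rev]
      rw [hl, hr]
      exact congr_map φ (htinv _)
    exact no_swap (le_of_eq hquo.symm) hsq hinv t y zQ b hZb (hinv _ hzQ2) hφzc hzQ2 hbb hzQ1 hφz1
      (Ne.symm hφzz) htz htb hyz hyb htt hty

end Cfsg.Agent.H29.RankTwoFusion
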